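import Cfsg.Agent.H964.Rg.Slo
import Cfsg.Agent.H71.Rg.NoExt

/-!
# S3691, minus type: the reducible factor (box (B) of helper964's plan; helper449)

* `minus_data` : the factor `Y` with `r_{2m-2}` is residual (`ResV`), or it fixes a singular point or a hyperbolic plane and
  its section of dimension `2 m - 2` contains `Ω⁻`
* `minus_fac` : the version with primes
-/

set_option autoImplicit false
set_option linter.unusedSectionVars false

namespace Cfsg.Agent.H449.Mn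

open Module QuadraticMap Cfsg Cfsg.Geo Cfsg.Agent.LieClassical.OrthCore Cfsg.Agent.LieClassical.OrthTrans
  Cfsg.Agent.H454.Reg Cfsg.Agent.H884.El Cfsg.Agent.H955 Cfsg.Agent.H954.TSing Cfsg.Agent.H193.Dg Cfsg.Agent.H851.Dg
  Cfsg.Agent.H449.Reg Cfsg.Agent.H964.Rg
open Cfsg.Agent.H951 (fx cm Inv)
open Cfsg.Agent.H278.Cov (Red Ext Num)
open scoped MatrixGroups Matrix

universe u v

variable {ι : Type} [Fintype ι] [DecidableEq ι] {F : Type v} [Field F] [Fintype F] {Q : QuadraticForm F (ι → F)}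
variable {G : Type u} [Group G] [Finite G] {T : Subgroup G} [T.Normal] {hG : Good Q} {eT : T ≃* POmega F (⇑Q)}
  {hI : Ind (eP hG eT)} {X Y : Subgroup G} {p f m N : ℕ}

/-- the additional primes of the factor -/
def HK (F : Type v) [Field F] (m n : ℕ) : Prop :=
  (∃ r4, PP (Nat.card F) (2 * m - 4) r4 ∧ r4 ∣ n) ∨
      (Odd m ∧ ∃ t, PP (Nat.card F) (m - 2) t ∧ t ∣ n) ∨
      (Even m ∧ (∃ t, PP (Nat.card F) (m - 1) t ∧ t ∣ n) ∧ ∃ t, PP (Nat.card F) (m - 3) t ∧ t ∣ n)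

/-- no extension fields for the sections -/
theorem sec_no_ext (hdim : Fintype.card ι = 2 * m) (hm : 5 ≤ m) {r2 : ℕ} (hr2 : PP (Nat.card F) (2 * m - 2) r2)
    (hY2 : r2 ∣ Nat.card (preG eT Y)) (hk : HK F m (Nat.card (preG eT Y))) {U R : Submodule F (ι → F)}
    (hS : Sec Q (preG eT Y) U R) (hU : finrank F U = 2 * m - 2) (hR : finrank F R ≤ 1)
    (hc : (2 : F) = 0 ∨ ∀ a ∈ R, Q a = 0) (hirr : ¬ RedV (secG hS)) {s : ℕ} (hs : s.Prime) (hsd : s ∣ 2 * m - 2) :
    ¬ AExt s (secG hS) := by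
  refine H71.Rg.no_ext hS.nd hS.polar_eq (hc.imp_right fun h => hS.le_O h) hirr hm hU hr2
    (hS.dvd hr2 (by omega) (by omega) (by omega) hY2) ?_ hs hsd
  rcases hk with ⟨r4, h4, hd⟩ | ⟨hmo, t, ht, hd⟩ | ⟨hme, ⟨t, ht, hd⟩, t', ht', hd'⟩
  · exact Or.inl ⟨r4, h4, hS.dvd h4 (by omega) (by omega) (by omega) hd⟩
  · exact Or.inr (Or.inl ⟨hmo, t, ht, hS.dvd ht (by omega) (by omega) (by omega) hd⟩)
  · obtain ⟨c, hc⟩ := hme
    exact Or.inr (Or.inr ⟨⟨c, hc⟩, ⟨t, ht, hS.dvd ht (by omega) (by omega) (by omega) hd⟩, t', ht',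
      hS.dvd ht' (by omega) (by omega) (by omega) hd'⟩)

/-- the data of the second case -/
def Alt (Q : QuadraticForm F (ι → F)) (H : Subgroup (GL ι F)) (m : ℕ) : Prop :=
  ∃ (S : Submodule F (ι → F)) (x : ι → F) (U R : Submodule F (ι → F)) (hS : Sec Q H U R), Q x = 0 ∧ x ≠ 0 ∧ x ∈ S ∧
    finrank F S ≤ 2 ∧ H ≤ subspaceStabilizer S ∧ finrank F U = 2 * m - 2 ∧ finrank F R ≤ 1 ∧ (∀ a ∈ R, Q a = 0) ∧
    U ⊔ R = perp Q S ∧ ¬ IsPlus (res Q U) ∧ E (res Q U) ≤ secG hS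

/-- **the reducible factor**, with the section -/
theorem minus_data (h : Cx hI X Y p f m (2 * m)) (hm : 5 ≤ m) (hP : ¬ IsPlus Q)
    {r2 : ℕ} (hr2 : PP (Nat.card F) (2 * m - 2) r2) (hY2 : r2 ∣ Nat.card (Y.subgroupOf T)) (hred : Red (preG eT Y))
    (hk : HK F m (Nat.card (preG eT Y)))
    (h8 : SLO Q (preG eT Y) (2 * m - 2) (2 * m - 2)) (h9 : (2 : F) ≠ 0 → SLO Q (preG eT Y) (2 * m - 1) 1)
    (h10 : (2 : F) = 0 → SLS Q (preG eT Y) (2 * m - 2) (2 * m - 2)) :
    (∃ v, ResV hI Y v) ∨ Alt Q (preG eT Y) m := by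
  have hc2 : r2 ∣ Nat.card (preG eT Y) := hY2.trans card_dvd_preG
  obtain ⟨x, hx, hiso, hxr, hx1⟩ := exists_elt (Q := Q) (preG_le (eT := eT) (X := Y)) hr2 (by omega) hc2
  have hfin := h.finrank_V
  have hdim := h.dim
  have hev : Even (2 * m - 2) := ⟨m - 1, by omega⟩
  obtain ⟨hcm, hcmP⟩ := hiso.even_case hG.nondeg (lin_ne_one hx1) hr2 hev (by omega)
  have hadd := hiso.finrank_add
  have hfx : finrank F ↥(fx (lin x)) = 2 := by omega
  have hfxP : IsPlus (res Q (fx (lin x))) := by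
    by_contra h0
    exact hP ((hiso.isPlus_fx hG.nondeg (by rw [hfin]; exact even_two_mul m) (by rw [hcm]; exact hev)).2
      ⟨fun h1 => absurd h1 hcmP, fun h1 => absurd h1 h0⟩)
  have hcompl := H951.isCompl_fx_cm hiso.ne0 hiso.pow
  obtain ⟨S, hM, hSle⟩ := exists_mx hI hr2 (by omega) (by omega) hx hxr hx1 hred
  have hS1 : finrank F S ≠ 0 := fun h0 => hM.ne (Submodule.finrank_eq_zero.1 h0)
  have hS2 := Submodule.finrank_mono hSle
  by_cases hS : finrank F S = 2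
  · -- the plane
    right
    have hSP : S = fx (lin x) := Submodule.eq_of_le_of_finrank_eq hSle (by omega)
    subst hSP
    obtain ⟨hsec, hU⟩ := sec_plane hG.nondeg preG_le hiso hM.le
    have hirr := hsec.irr hG.nondeg hr2 (by omega) (by omega) hx hxr hx1 hU hM.max (fun u hu hu2 => by
      have h1 : u ∈ fx (lin x) ⊓ cm (lin x) := ⟨hu2, hu⟩
      rw [hcompl.inf_eq_bot] at h1
      exact (Submodule.mem_bot F).1 h1)
    have hR0 : ∀ a ∈ (⊥ : Submodule F (ι → F)), Q a = 0 := fun a ha => by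
      rw [(Submodule.mem_bot F).1 ha, QuadraticMap.map_zero]
    have hE : E (res Q (cm (lin x))) ≤ secG hsec := by
      rcases h8 (cm (lin x)) ⊥ hsec hcm (by rw [finrank_bot]; omega) hR0 with h1 | ⟨s, hs, hsd, h1⟩ | h1
      · exact absurd h1 hirr
      · exact absurd h1 (sec_no_ext hdim hm hr2 hc2 hk hsec hcm (by rw [finrank_bot]; omega) (Or.inr hR0) hirr hs hsd)
      · exact h1
    obtain ⟨y, hy, hy0, hyQ⟩ : ∃ y ∈ fx (lin x), y ≠ 0 ∧ Q y = 0 := by
      obtain ⟨W, hW, hWd⟩ := hfxP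
      have hWne : W ≠ ⊥ := by
        rintro rfl
        rw [finrank_bot] at hWd
        omega
      obtain ⟨w, hw, hw0⟩ := Submodule.exists_mem_ne_zero_of_ne_bot hWne
      exact ⟨w, w.2, fun h0 => hw0 (Subtype.ext h0), hW w hw⟩
    exact ⟨fx (lin x), y, cm (lin x), ⊥, hsec, hyQ, hy0, hy, hfx.le, hM.le, hcm, by rw [finrank_bot]; omega, hR0, hU,
      hcmP, hE⟩
  · -- a point
    have hS1' : finrank F S = 1 := by omega
    obtain ⟨v, hv, hv0⟩ := Submodule.exists_mem_ne_zero_of_ne_bot hM.ne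
    have hSv : S = F ∙ v := (Submodule.eq_of_le_of_finrank_eq ((Submodule.span_singleton_le_iff_mem v S).2 hv)
      (by rw [hS1', finrank_span_singleton hv0])).symm
    subst hSv
    have hvx : v ∈ fx (lin x) := hSle hv
    have hR : finrank F (F ∙ v) = 1 := finrank_span_singleton hv0
    have hline : polar Q v v = 0 → ∃ (hsec : Sec Q (preG eT Y) (cm (lin x)) (F ∙ v)),
        cm (lin x) ⊔ (F ∙ v) = perp Q (F ∙ v) ∧ ¬ RedV (secG hsec) := fun hvv => by
      obtain ⟨hsec, hU⟩ := sec_line hG.nondeg preG_le hiso hfx hv0 hvv hvx hM.le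
      refine ⟨hsec, hU, hsec.irr hG.nondeg hr2 (by omega) (by omega) hx hxr hx1 hU hM.max (fun u hu hu2 => ?_)⟩
      have h1 : u ∈ fx (lin x) ⊓ cm (lin x) := ⟨hSle hu2, hu⟩
      rw [hcompl.inf_eq_bot] at h1
      exact (Submodule.mem_bot F).1 h1
    by_cases hQv : Q v = 0
    · -- a singular point
      right
      obtain ⟨hsec, hU, hirr⟩ := hline (by rw [polar_self', hQv, mul_zero])
      have hR0 : ∀ a ∈ F ∙ v, Q a = 0 := fun a ha => by
        obtain ⟨c, rfl⟩ := Submodule.mem_span_singleton.1 ha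
        rw [QuadraticMap.map_smul, hQv, smul_zero]
      have hE : E (res Q (cm (lin x))) ≤ secG hsec := by
        rcases h8 (cm (lin x)) _ hsec hcm hR.le hR0 with h1 | ⟨s, hs, hsd, h1⟩ | h1
        · exact absurd h1 hirr
        · exact absurd h1 (sec_no_ext hdim hm hr2 hc2 hk hsec hcm hR.le (Or.inr hR0) hirr hs hsd)
        · exact h1
      exact ⟨F ∙ v, v, cm (lin x), F ∙ v, hsec, hQv, hv0, hv, by omega, hM.le, hcm, hR.le, hR0, hU, hcmP, hE⟩
    · left
      refine ⟨v, ?_⟩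
      by_cases h2 : (2 : F) = 0
      · have hvv : polar Q v v = 0 := by rw [polar_self', h2, zero_mul]
        obtain ⟨hsec, hU, hirr⟩ := hline hvv
        refine resV_even h2 hQv hM.fix (by omega) hiso hU hvx hsec ?_
        refine sp_of_sls h2 hQv hM (by omega) hU hsec (by omega) hcm (h10 h2) hirr fun s hs hsd => ?_
        exact sec_no_ext hdim hm hr2 hc2 hk hsec hcm hR.le (Or.inl h2) hirr hs hsd
      · obtain ⟨hsec, hU⟩ := sec_perp hG.nondeg preG_le h2 hQv hM.le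
        have hUd : finrank F (perp Q (F ∙ v)) = 2 * m - 1 := by
          have h5 := finrank_perp hG.nondeg (F ∙ v)
          rw [finrank_span_singleton hv0, hfin] at h5
          omega
        have hirr := hsec.irr hG.nondeg hr2 (by omega) (by omega) hx hxr hx1 hU hM.max (fun u hu hu2 => by
          obtain ⟨c, rfl⟩ := Submodule.mem_span_singleton.1 hu2
          have h1 := hu v hv
          rw [polar_smul_right, polar_self', smul_eq_mul] at h1
          rcases mul_eq_zero.1 h1 with h3 | h3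
          · rw [h3, zero_smul]
          · rcases mul_eq_zero.1 h3 with h4 | h4
            · exact absurd h4 h2
            · exact absurd h4 hQv)
        refine resV_odd h2 hQv hM.fix (by omega) hsec ?_
        rcases h9 h2 (perp Q (F ∙ v)) ⊥ hsec hUd (by rw [finrank_bot]; omega) (fun a ha => by
          rw [(Submodule.mem_bot F).1 ha, QuadraticMap.map_zero]) with h1 | ⟨s, hs, hsd, h1⟩ | h1
        · exact absurd h1 hirr
        · exact absurd (Nat.dvd_one.1 hsd) hs.one_lt.ne'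
        · exact h1

/-- (B) MINUS, the reducible factor -/
theorem minus_fac (h : Cx hI X Y p f m (2 * m)) (hm : 5 ≤ m) (hP : ¬ IsPlus Q)
    {r2 : ℕ} (hr2 : PP (Nat.card F) (2 * m - 2) r2) (hY2 : r2 ∣ Nat.card (Y.subgroupOf T)) (hred : Red (preG eT Y))
    (hk : HK F m (Nat.card (Y.subgroupOf T)))
    (h8 : SLO Q (preG eT Y) (2 * m - 2) (2 * m - 2)) (h9 : (2 : F) ≠ 0 → SLO Q (preG eT Y) (2 * m - 1) 1)
    (h10 : (2 : F) = 0 → SLS Q (preG eT Y) (2 * m - 2) (2 * m - 2)) :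
    (∃ v, ResV hI Y v) ∨ ((∀ e t, Even e → 2 ≤ e → e < 2 * m - 2 → PP (Nat.card F) e t → t ∣ Nat.card (preG eT Y)) ∧
      ∃ (S : Submodule F (ι → F)) (x : ι → F), Q x = 0 ∧ x ≠ 0 ∧ x ∈ S ∧ finrank F S ≤ 2 ∧ preG eT Y ≤ subspaceStabilizer S) := by
  have hk' : HK F m (Nat.card (preG eT Y)) := by
    rcases hk with ⟨r4, h4, hd⟩ | ⟨hmo, t, ht, hd⟩ | ⟨hme, ⟨t, ht, hd⟩, t', ht', hd'⟩
    · exact Or.inl ⟨r4, h4, hd.trans card_dvd_preG⟩
    · exact Or.inr (Or.inl ⟨hmo, t, ht, hd.trans card_dvd_preG⟩)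
    · exact Or.inr (Or.inr ⟨hme, ⟨t, ht, hd.trans card_dvd_preG⟩, t', ht', hd'.trans card_dvd_preG⟩)
  rcases minus_data h hm hP hr2 hY2 hred hk' h8 h9 h10 with h1 | ⟨S, x, U, R, hS, hx, hx0, hxS, hS2, hYS, hU, -, -, -, -, hE⟩
  · exact Or.inl h1
  · refine Or.inr ⟨fun e t he he2 hem ht => ?_, S, x, hx, hx0, hxS, hS2, hYS⟩
    have h1 := H522.Rg.E_dvd hS.nd (by omega) (by rw [hU]; exact ⟨m - 1, by omega⟩) ht he he2 (by omega)
    exact (h1.trans (Subgroup.card_dvd_of_le hE)).trans hS.card_dvd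

end Cfsg.Agent.H449.Mn
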