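import Cfsg.Agent.H449.Mn.NineB
import Cfsg.Agent.S5833

/-!
# S3691, `PΩ⁻_18(2)`, `PΩ⁻_18(3)`, with the residual class `Res9` filled in (helper449)
-/

set_option autoImplicit false
set_option linter.unusedSectionVars false

namespace Cfsg.Agent.H449.Mn

open Module QuadraticMap Cfsg Cfsg.Geo Cfsg.Agent.LieClassical.OrthCore Cfsg.Agent.LieClassical.OrthTrans
  Cfsg.Agent.H454.Reg Cfsg.Agent.H884.El Cfsg.Agent.H955 Cfsg.Agent.H954.TSing Cfsg.Agent.H193.Dg Cfsg.Agent.H851.Dg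
  Cfsg.Agent.H449.Reg Cfsg.Agent.H964.Rg

universe u

variable {ι : Type} [Fintype ι] [DecidableEq ι] {F : Type} [Field F] [Fintype F] {Q : QuadraticForm F (ι → F)}
variable {G : Type u} [Group G] [Finite G] {T : Subgroup G} [T.Normal] {hG : Good Q} {eT : T ≃* POmega F (⇑Q)}
  {hI : Ind (eP hG eT)} {X Y : Subgroup G} {p f : ℕ}

/-- **`m = 9`, `q = 2, 3`** -/
theorem bad_nine (hP5 : H659.CovCore.S5948Stmt.{0})
    (hKS : ∀ (T : Type) [Group T] [Finite T] [IsSimpleGroup T], IsKnownSimple' T)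
    (h : Cx hI X Y p f 9 (2 * 9)) (hP : ¬ IsPlus Q) (hodd : H198.Mr.OddP T (Nat.card F) 9) (hq : p ^ f = 2 ∨ p ^ f = 3) :
    ∃ v, ResV hI X v ∨ ResV hI Y v :=
  bad_nine_of hP5 hKS (fun F _ _ q hF H hH hS => Cfsg.Agent.S5833.result q hF H hH hS) h hP hodd hq

end Cfsg.Agent.H449.Mn
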