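import Cfsg.Agent.H964.Rg.Slo
import Cfsg.Agent.H449.Reg.Types

/-!
# S3691, `PΩ⁻_{2m}(q)`: the exceptional pairs `m = 9`, `q = 2, 3`, first part (helper449)

* `ired` : a factor containing `r_{2m}` is irreducible; `par`, `odd_kill` : no quadratic fields
* `nine_core` : the factor `Y` contains `r_16`, is reducible and contains `r_14` or `r_7`
-/

set_option autoImplicit false
set_option linter.unusedSectionVars false

namespace Cfsg.Agent.H449.Mn

open Module QuadraticMap Cfsg Cfsg.Geo Cfsg.Agent.LieClassical.OrthCore Cfsg.Agent.LieClassical.OrthTrans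
  Cfsg.Agent.H454.Reg Cfsg.Agent.H884.El Cfsg.Agent.H955 Cfsg.Agent.H954.TSing Cfsg.Agent.H193.Dg Cfsg.Agent.H851.Dg
  Cfsg.Agent.H449.Reg Cfsg.Agent.H964.Rg
open Cfsg.Agent.H951 (fx cm Inv)
open Cfsg.Agent.H278.Cov (Red Ext Num)
open scoped MatrixGroups Matrix

universe u v

variable {ι : Type} [Fintype ι] [DecidableEq ι] {F : Type v} [Field F] [Fintype F] {Q : QuadraticForm F (ι → F)}
variable {G : Type u} [Group G] [Finite G] {T : Subgroup G} [T.Normal] {hG : Good Q} {eT : T ≃* POmega F (⇑Q)}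
  {hI : Ind (eP hG eT)} {X Y : Subgroup G} {p f m N : ℕ}

/-- `r_{2m}` : the factor is irreducible -/
theorem ired (h : Cx hI X Y p f m N) (hm : 2 ≤ m) {r : ℕ} (hr : PP (Nat.card F) (2 * m) r)
    (hd : r ∣ Nat.card (X.subgroupOf T)) : ¬ Red (preG eT X) := by
  rintro ⟨W, hW0, hW1, hW⟩
  obtain ⟨g, hg, hgi, hgr, hg1⟩ := exists_elt (Q := Q) (preG_le (eT := eT) (X := X)) hr (by omega)
    (hd.trans card_dvd_preG)
  obtain ⟨-, hcm, hor, -⟩ := elt_data hr (by omega) (by rw [h.dim]; omega) hgi.pow (lin_ne_one hg1)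
  have hadd := hgi.finrank_add
  have hV := h.finrank_V
  rcases hor W (inv_of_mem (hW hg)) with h1 | h1
  · apply hW0
    have := Submodule.finrank_mono h1
    exact Submodule.finrank_eq_zero.1 (by omega)
  · apply hW1
    have := Submodule.finrank_mono h1
    have := Submodule.finrank_le W
    exact Submodule.eq_top_of_finrank_eq (by omega)

theorem irr_of (hirr : ¬ Red (preG eT X)) : ActsIrreducibly (matrixSet (preG eT X)) := by
  intro W hW
  by_contra hcon
  push Not at hcon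
  refine hirr ⟨W, hcon.1, hcon.2, fun g hg => H884.OmegaGL.mem_subspaceStabilizer.2 fun w hw => ?_⟩
  have h1 := hW _ ⟨g, hg, rfl⟩ ⟨w, hw, rfl⟩
  rwa [Matrix.toLin'_apply] at h1

/-- two parities -/
theorem par (h : Cx hI X Y p f m N) (hirr : ¬ Red (preG eT X)) {j k r s : ℕ} (hr : PP (Nat.card F) j r)
    (hs : PP (Nat.card F) k s) (hj : Even j) (hk : Even k) (hj2 : 2 ≤ j) (hk2 : 2 ≤ k) (hmj : m < j) (hmk : m < k)
    (hpar : Odd (j / 2 + k / 2)) (hX1 : r ∣ Nat.card (X.subgroupOf T)) (hX2 : s ∣ Nat.card (X.subgroupOf T)) :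
    ¬ Ex2 (preG eT X) := by
  rintro ⟨K, hK, hHK⟩
  have hB : (polarBilin Q).Nondegenerate := by
    refine ⟨fun u hu => hG.nondeg u hu, fun u hu => hG.nondeg u fun w => ?_⟩
    have := hu w
    rw [polar_comm]
    exact this
  have hdim := h.dim
  exact no_field2_gen (irr_of hirr) hB (fun g hg u w => polar_mulVec preG_le hg u w) hr hs hj hk (by omega) (by omega)
    hj2 hk2 hpar (hX1.trans card_dvd_preG) (hX2.trans card_dvd_preG) hK hHK

/-- an odd order -/
theorem odd_kill (h : Cx hI X Y p f m N) {e t : ℕ} (ht : PP (Nat.card F) e t) (he : Odd e) (he3 : 3 ≤ e) (hme : m < 2 * e)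
    (hd : t ∣ Nat.card (X.subgroupOf T)) : ¬ Ex2 (preG eT X) := by
  rintro ⟨K, hK, hHK⟩
  rcases ext_odd hG.nondeg preG_le ht he he3 (by rw [h.dim]; omega) (hd.trans card_dvd_preG) Nat.prime_two hK hHK with
    h1 | h1
  · have := ht.lt (by omega)
    omega
  · exact (Nat.not_even_iff_odd.2 he) (even_iff_two_dvd.2 h1)

theorem ex2_of {H : Subgroup (GL ι F)} {d : ℕ} (hd : d = 2) (h : Ext d H) : Ex2 H := by
  obtain ⟨s, K, hs, hsd, hK, hHK⟩ := h
  rw [hd] at hsd
  have h2 := (Nat.prime_dvd_prime_iff_eq hs Nat.prime_two).1 hsd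
  subst h2
  exact ⟨K, hK, hHK⟩

/-- even orders: one of the factors -/
theorem or_even (h : Cx hI X Y p f m N) {k r : ℕ} (hr : PP p (f * k) r) (hk : Even k) (hk3 : 3 ≤ k) (hmk : m < k)
    (hkN : k ≤ N) : r ∣ Nat.card (X.subgroupOf T) ∨ r ∣ Nat.card (Y.subgroupOf T) := by
  have h1 : r ∣ (p ^ f) ^ k - 1 :=
    ((h.card ▸ h.pp hr : PP (p ^ f) k r).dvd_iff (Nat.one_le_pow _ _ h.prime.pos) k).2 dvd_rfl
  have h2 := h.dvd k r 1 hk hk3 hmk hkN hr (by rwa [pow_one])
  rw [pow_one] at h2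
  exact h.fac.prime_dvd hr.prime h2 (h.out k r hk3 hr)

/-- `m = 9` : the factor `Y` -/
theorem nine_core (hP5 : H659.CovCore.S5948Stmt.{v}) (h : Cx hI X Y p 1 9 18) {r0 r2 r4 t : ℕ} (hr0 : PP p 18 r0)
    (hr2 : PP p 16 r2) (hr4 : PP p 14 r4) (ht : PP p 7 t) (hb2 : 33 < r2) (hb4 : 29 < r4) (htT : t ∣ Nat.card T)
    (hX0 : r0 ∣ Nat.card (X.subgroupOf T)) :
    r2 ∣ Nat.card (Y.subgroupOf T) ∧ Big T Y p 1 16 ∧ Red (preG eT Y) ∧
      (r4 ∣ Nat.card (Y.subgroupOf T) ∨ t ∣ Nat.card (Y.subgroupOf T)) := by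
  have hpp : ∀ {k r : ℕ}, PP p k r → PP (Nat.card F) k r := fun {k r} hr => h.pp (by rwa [one_mul])
  have hX := ired h (by norm_num) (hpp hr0) hX0
  have hdq : ∀ {k r : ℕ}, PP p k r → r ^ 1 ∣ (p ^ 1) ^ k - 1 := fun {k r} hr => by
    rw [pow_one, pow_one]
    exact (hr.dvd_iff h.prime.one_le k).2 dvd_rfl
  have bX2 : r2 ∣ Nat.card (X.subgroupOf T) → Big T X p 1 16 := fun hd =>
    ⟨r2, 1, by rwa [one_mul], by rw [pow_one]; omega, hdq hr2, by rwa [pow_one]⟩
  have bY2 : r2 ∣ Nat.card (Y.subgroupOf T) → Big T Y p 1 16 := fun hd =>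
    ⟨r2, 1, by rwa [one_mul], by rw [pow_one]; omega, hdq hr2, by rwa [pow_one]⟩
  have bX4 : r4 ∣ Nat.card (X.subgroupOf T) → Big T X p 1 14 := fun hd =>
    ⟨r4, 1, by rwa [one_mul], by rw [pow_one]; omega, hdq hr4, by rwa [pow_one]⟩
  -- `r_16` in `Y`
  have hY2 : r2 ∣ Nat.card (Y.subgroupOf T) := by
    rcases or_even h (k := 16) (by rwa [one_mul]) (by decide) (by norm_num) (by norm_num) (by norm_num) with h1 | h1
    · exfalso
      rcases h.list hP5 (by norm_num) (k := 16) (by norm_num) (by norm_num) (bX2 h1) with h2 | h2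
      · exact hX h2
      · exact par h hX (hpp hr0) (hpp hr2) (by decide) (by decide) (by norm_num) (by norm_num) (by norm_num) (by norm_num)
          (by decide) hX0 h1 (ex2_of (by norm_num) h2)
    · exact h1
  -- `r_14` in `X` : a quadratic field, `r_7` in `Y`
  have hX4 : r4 ∣ Nat.card (X.subgroupOf T) → Ex2 (preG eT X) := fun h1 => by
    rcases h.list hP5 (by norm_num) (k := 14) (by norm_num) (by norm_num) (bX4 h1) with h2 | h2
    · exact absurd h2 hX
    · exact ex2_of (by norm_num) h2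
  have ht7 : t ∣ Nat.card (X.subgroupOf T) ∨ t ∣ Nat.card (Y.subgroupOf T) :=
    h.fac.prime_dvd ht.prime htT (h.out 7 t (by norm_num) (by rwa [one_mul]))
  have hr44 : r4 ∣ Nat.card (X.subgroupOf T) ∨ r4 ∣ Nat.card (Y.subgroupOf T) :=
    or_even h (k := 14) (by rwa [one_mul]) (by decide) (by norm_num) (by norm_num) (by norm_num)
  have hYt : r4 ∣ Nat.card (X.subgroupOf T) → t ∣ Nat.card (Y.subgroupOf T) := fun h1 =>
    ht7.resolve_left fun h2 => odd_kill h (hpp ht) (by decide) (by norm_num) (by norm_num) h2 (hX4 h1)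
  refine ⟨hY2, bY2 hY2, ?_, ?_⟩
  · by_contra hY
    rcases h.symm.list hP5 (by norm_num) (k := 16) (by norm_num) (by norm_num) (bY2 hY2) with h2 | h2
    · exact hY h2
    · have h3 := ex2_of (by norm_num) h2
      rcases hr44 with h4 | h4
      · exact odd_kill h.symm (hpp ht) (by decide) (by norm_num) (by norm_num) (hYt h4) h3
      · exact par h.symm hY (hpp hr2) (hpp hr4) (by decide) (by decide) (by norm_num) (by norm_num) (by norm_num)
          (by norm_num) (by decide) hY2 h4 h3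
  · rcases hr44 with h4 | h4
    · exact Or.inr (hYt h4)
    · exact Or.inl h4

end Cfsg.Agent.H449.Mn
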