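import Cfsg.Agent.H449.Mn.Fac
import Cfsg.Agent.H449.Mn.Nine
import Cfsg.Agent.H729.Rg.SloOf
import Cfsg.Agent.H96.Rg.MinOdd
import Cfsg.Agent.H119.Rg.Opp
import Cfsg.Agent.H951.Rg.Nine
import Cfsg.Agent.H198.Mr.BadF
import Cfsg.Agent.H383.Mn.NineTwo

/-!
# S3691, `PΩ⁻_18(2)`, `PΩ⁻_18(3)` (helper449)
-/

set_option autoImplicit false
set_option linter.unusedSectionVars false

namespace Cfsg.Agent.H449.Mn

open Module QuadraticMap Cfsg Cfsg.Geo Cfsg.Agent.LieClassical.OrthCore Cfsg.Agent.LieClassical.OrthTrans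
  Cfsg.Agent.H454.Reg Cfsg.Agent.H884.El Cfsg.Agent.H955 Cfsg.Agent.H954.TSing Cfsg.Agent.H193.Dg Cfsg.Agent.H851.Dg
  Cfsg.Agent.H449.Reg Cfsg.Agent.H964.Rg
open Cfsg.Agent.H951 (fx cm Inv)
open Cfsg.Agent.H278.Cov (Red Ext Num)
open Cfsg.Agent.LieClassical.OrthFinite (glEquiv glEquiv_apply)
open scoped MatrixGroups Matrix

universe u v

theorem pp_2_18 : PP 2 18 19 := ⟨by norm_num, (orderOf_eq_iff (by norm_num)).2 ⟨by decide +kernel, by decide +kernel⟩⟩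
theorem pp_2_16 : PP 2 16 257 := ⟨by norm_num, (orderOf_eq_iff (by norm_num)).2 ⟨by decide +kernel, by decide +kernel⟩⟩
theorem pp_2_14 : PP 2 14 43 := ⟨by norm_num, (orderOf_eq_iff (by norm_num)).2 ⟨by decide +kernel, by decide +kernel⟩⟩
theorem pp_2_7 : PP 2 7 127 := ⟨by norm_num, (orderOf_eq_iff (by norm_num)).2 ⟨by decide +kernel, by decide +kernel⟩⟩
theorem pp_3_18 : PP 3 18 37 := ⟨by norm_num, (orderOf_eq_iff (by norm_num)).2 ⟨by decide +kernel, by decide +kernel⟩⟩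
theorem pp_3_16 : PP 3 16 193 := ⟨by norm_num, (orderOf_eq_iff (by norm_num)).2 ⟨by decide +kernel, by decide +kernel⟩⟩
theorem pp_3_14 : PP 3 14 547 := ⟨by norm_num, (orderOf_eq_iff (by norm_num)).2 ⟨by decide +kernel, by decide +kernel⟩⟩
theorem pp_3_7 : PP 3 7 1093 := ⟨by norm_num, (orderOf_eq_iff (by norm_num)).2 ⟨by decide +kernel, by decide +kernel⟩⟩
theorem pp_3_8 : PP 3 8 41 := ⟨by norm_num, (orderOf_eq_iff (by norm_num)).2 ⟨by decide +kernel, by decide +kernel⟩⟩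

variable {ι : Type} [Fintype ι] [DecidableEq ι] {F : Type v} [Field F] [Fintype F] {Q : QuadraticForm F (ι → F)}
variable {G : Type u} [Group G] [Finite G] {T : Subgroup G} [T.Normal] {hG : Good Q} {eT : T ≃* POmega F (⇑Q)}
  {hI : Ind (eP hG eT)} {X Y : Subgroup G} {p f m N : ℕ}

/-- `m = 9` : residual, or the section of dimension 16 -/
theorem nine_data (hP5 : H659.CovCore.S5948Stmt.{v}) (h : Cx hI X Y p 1 9 (2 * 9)) (hP : ¬ IsPlus Q) {r0 r2 r4 t : ℕ}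
    (hr0 : PP p 18 r0) (hr2 : PP p 16 r2) (hr4 : PP p 14 r4) (ht : PP p 7 t) (hb2 : 33 < r2) (hb4 : 29 < r4)
    (htT : t ∣ Nat.card T) (hX0 : r0 ∣ Nat.card (X.subgroupOf T)) :
    r2 ∣ Nat.card (Y.subgroupOf T) ∧ ((∃ v, ResV hI Y v) ∨ Alt Q (preG eT Y) 9) := by
  have hpp : ∀ {k r : ℕ}, PP p k r → PP (Nat.card F) k r := fun {k r} hr => h.pp (by rwa [one_mul])
  obtain ⟨hY2, hB, hred, hk⟩ := nine_core hP5 h hr0 hr2 hr4 ht hb2 hb4 htT hX0
  have hk' : HK F 9 (Nat.card (preG eT Y)) := by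
    rcases hk with h1 | h1
    · exact Or.inl ⟨r4, hpp hr4, h1.trans card_dvd_preG⟩
    · exact Or.inr (Or.inl ⟨by decide, t, hpp ht, h1.trans card_dvd_preG⟩)
  exact ⟨hY2, minus_data h (by norm_num) hP (hpp hr2) hY2 hred hk'
    (H729.Rg.slo_of hP5 h.symm (n := 16) (k := 16) (by norm_num) (by norm_num) (by norm_num) (by norm_num) (by norm_num) hB)
    (fun _ => H729.Rg.slo_of hP5 h.symm (n := 17) (k := 16) (by norm_num) (by norm_num) (by norm_num) (by norm_num)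
      (by norm_num) hB)
    (fun h2 => H729.Rg.sls_of hP5 h.symm h2 (n := 16) (k := 16) (by norm_num) (by norm_num) (by norm_num) (by norm_num)
      (by norm_num) hB)⟩

section zero

variable {ι : Type} [Fintype ι] [DecidableEq ι] {F : Type} [Field F] [Fintype F] {Q : QuadraticForm F (ι → F)}
variable {G : Type u} [Group G] [Finite G] {T : Subgroup G} [T.Normal] {hG : Good Q} {eT : T ≃* POmega F (⇑Q)}
  {hI : Ind (eP hG eT)} {X Y : Subgroup G} {p f m N : ℕ}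

/-- `q = 2` -/
theorem nine_two_end (hP5 : H659.CovCore.S5948Stmt.{0}) (h : Cx hI X Y 2 1 9 (2 * 9)) (hP : ¬ IsPlus Q)
    (hT7 : 127 ∣ Nat.card T) (hX0 : 19 ∣ Nat.card (X.subgroupOf T)) : ∃ v, ResV hI Y v := by
  obtain ⟨-, h1 | ⟨S, x, U, R, hS, hx, hx0, hxS, hS2, hYS, hU, hR, hR0, hUR, -, hE⟩⟩ :=
    nine_data hP5 h hP pp_2_18 pp_2_16 pp_2_14 pp_2_7 (by norm_num) (by norm_num) hT7 hX0
  · exact h1
  · exact (H383.Mn.nine_two h hP hx hx0 hxS hS2 hYS hS hU hR hR0 hUR hE).elim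

/-- `q = 3` -/
theorem nine_three_end (hP5 : H659.CovCore.S5948Stmt.{0})
    (hKS : ∀ (T : Type) [Group T] [Finite T] [IsSimpleGroup T], IsKnownSimple' T)
    (hres : ∀ (F : Type) [Field F] [Fintype F] (q : ℕ), Fintype.card F = q ^ 2 → H729.CovSU9.Res9 F q)
    (h : Cx hI X Y 3 1 9 (2 * 9)) (hP : ¬ IsPlus Q)
    (hT7 : 1093 ∣ Nat.card T) (hX0 : 37 ∣ Nat.card (X.subgroupOf T)) : ∃ v, ResV hI Y v := by
  obtain ⟨hY2, h1 | ⟨S, x, U, R, hS, hx, hx0, hxS, hS2, hYS, hU, hR, hR0, hUR, -, hE⟩⟩ :=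
    nine_data hP5 h hP pp_3_18 pp_3_16 pp_3_14 pp_3_7 (by norm_num) (by norm_num) hT7 hX0
  · exact h1
  exfalso
  have hpp : ∀ {k r : ℕ}, PP 3 k r → PP (Nat.card F) k r := fun {k r} hr => h.pp (by rwa [one_mul])
  have hF : Nat.card F = 3 := by rw [h.card]; norm_num
  have hirr := ired h (by norm_num) (hpp pp_3_18) hX0
  -- `r_14` in `Y`
  have hY4 : 547 ∣ Nat.card (preG eT Y) :=
    ((H522.Rg.E_dvd hS.nd (by omega) (by rw [hU]; decide) (hpp pp_3_14) (by decide) (by norm_num) (by omega)).trans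
      (Subgroup.card_dvd_of_le hE)).trans hS.card_dvd
  -- `r_8` in `X`
  have hX8 : 41 ∣ Nat.card (X.subgroupOf T) := H119.Rg.minus_opp h (by norm_num) hP hx hx0 hxS hS2 hYS (e := 8)
    (by norm_num) (by norm_num) (hpp pp_3_8) (h.out 8 41 (by norm_num) (by rw [one_mul]; exact pp_3_8))
  have hLX : ∃ (s : ℕ) (K : Subalgebra F (Matrix ι ι F)), s.Prime ∧ s ∣ 2 * 9 ∧ IsFieldSubalgebra s K ∧
        preG eT X ≤ subalgebraNormalizer K := by
    rcases H198.Mr.list_ref hKS h (q := 3) (n := 18) (k := 18) (r := 37) (l := 41) (by decide) hF (by norm_num) hX0 hX8 with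
      h2 | ⟨s, K, hs, hsd, hK, hle⟩
    · exact absurd h2 hirr
    · exact ⟨s, K, hs, by simpa using hsd, hK, hle⟩
  refine H96.Rg.minus_odd_no h (by norm_num) (by decide) hP ?_ (by norm_num) (by norm_num) (hpp pp_3_18) hX0 (hpp pp_3_16) hY2
    (by rw [one_mul]; exact pp_3_14) hY4 (t1 := 41) (by rw [one_mul]; exact pp_3_8) hx hx0 hxS hS2 hYS hLX
  intro hEx _ ⟨t, ht, htX⟩
  have hfin : Finite ((ι → F) ≃ₗ[F] (ι → F)) :=
    Finite.of_injective (fun g : (ι → F) ≃ₗ[F] (ι → F) => (g : (ι → F) → (ι → F))) DFunLike.coe_injective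
  have hc : Nat.card ((preG eT X).map (glEquiv ι F).toMonoidHom) = Nat.card (preG eT X) :=
    Subgroup.card_map_of_injective (glEquiv ι F).injective
  obtain ⟨g, hg, ho⟩ := h.elt (k := 18) (r := 37) (a := 1) (by rw [one_mul]; exact pp_3_18) (by norm_num) (by norm_num)
    (by rw [pow_one]; exact hX0)
  have h5 := H951.Rg.kext_nine_of' hres (p := 3) (f := 1) (r := 37) (a := 1) (h.finrank_V) hG.nondeg
    (A := (preG eT X).map (glEquiv ι F).toMonoidHom)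
    ((map_le_E hG).trans fun g hg => E_le_O hg) (H198.Mr.aext_pre hEx) h.prime h.fcard (by rw [one_mul]; exact pp_3_18)
    (g := glEquiv ι F g) ⟨g, hg, rfl⟩ (by rw [MulEquiv.orderOf_eq, ho]) one_ne_zero (by norm_num)
    (t := t) (by rw [← h.card]; exact ht) (by rw [hc]; exact htX)
  rw [hc] at h5
  rw [h.card]
  exact h5

/-- **`m = 9`, `q = 2, 3`** -/
theorem bad_nine_of (hP5 : H659.CovCore.S5948Stmt.{0})
    (hKS : ∀ (T : Type) [Group T] [Finite T] [IsSimpleGroup T], IsKnownSimple' T)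
    (hres : ∀ (F : Type) [Field F] [Fintype F] (q : ℕ), Fintype.card F = q ^ 2 → H729.CovSU9.Res9 F q)
    (h : Cx hI X Y p f 9 (2 * 9)) (hP : ¬ IsPlus Q) (hodd : H198.Mr.OddP T (Nat.card F) 9) (hq : p ^ f = 2 ∨ p ^ f = 3) :
    ∃ v, ResV hI X v ∨ ResV hI Y v := by
  obtain ⟨t7, h7, -, hT7⟩ := hodd 7 (by decide) (by norm_num) (by norm_num)
  rw [h.card] at h7
  rcases hq with hq | hq
  · obtain ⟨rfl, rfl⟩ := H198.Mr.pow_two_eq h.prime hq
    rw [hq] at h7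
    rw [H198.Mr.eq_2_7 h7] at hT7
    rcases h.side (k := 18) (r := 19) (by decide) (by norm_num) (by norm_num) (by norm_num) (by rw [one_mul]; exact pp_2_18) with
      h1 | h1
    · obtain ⟨v, hv⟩ := nine_two_end hP5 h hP hT7 (by simpa using h1 1 (by norm_num))
      exact ⟨v, Or.inr hv⟩
    · obtain ⟨v, hv⟩ := nine_two_end hP5 h.symm hP hT7 (by simpa using h1 1 (by norm_num))
      exact ⟨v, Or.inl hv⟩
  · obtain ⟨rfl, rfl⟩ := H198.Mr.pow_three_eq h.prime hq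
    rw [hq] at h7
    rw [H198.Mr.eq_3_7 h7] at hT7
    rcases h.side (k := 18) (r := 37) (by decide) (by norm_num) (by norm_num) (by norm_num) (by rw [one_mul]; exact pp_3_18) with
      h1 | h1
    · obtain ⟨v, hv⟩ := nine_three_end hP5 hKS hres h hP hT7 (by simpa using h1 1 (by norm_num))
      exact ⟨v, Or.inr hv⟩
    · obtain ⟨v, hv⟩ := nine_three_end hP5 hKS hres h.symm hP hT7 (by simpa using h1 1 (by norm_num))
      exact ⟨v, Or.inl hv⟩

end zero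

end Cfsg.Agent.H449.Mn
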